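import Groth.Agent.ProjDegLib.Chart
import Groth.Agent.TwistLib.ProjSymExt
import Groth.Agent.RelProjLib.ProjProper
import Mathlib.AlgebraicGeometry.Morphisms.ClosedImmersion
import Mathlib.AlgebraicGeometry.Morphisms.FiniteType
import Mathlib.AlgebraicGeometry.ZariskisMainTheorem
import Mathlib.AlgebraicGeometry.Noetherian
import Mathlib.FieldTheory.IsAlgClosed.Basic
import Mathlib.RingTheory.Nakayama

/-!
# Closed immersions into projective space: separation of points and tangents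
-/

set_option autoImplicit false
universe u

open CategoryTheory AlgebraicGeometry TopologicalSpace Opposite

noncomputable section

namespace ProjDegLib

variable (k : Type u) [Field k] {X : Scheme.{u}} (pX : X ⟶ Spec (CommRingCat.of k)) (n : ℕ)
  (f : X ⟶ CohB1.ProjSpace n k)

local notation "P" => CohB1.ProjSpace n k

/-- The pulled back linear form. -/
def psec (c : Fin (n + 1) → k) : ProjUP.Γm ((Scheme.Modules.pullback f).obj (O1 n k)) :=
  ∑ i, ProjUP.toGlobal pX (c i) • ProjUP.pullSec f (O1 n k) (ProjUP.coord n k i)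

/-- The pulled back linear form vanishes at a point. -/
def XVan (c : Fin (n + 1) → k) (x : X) : Prop :=
  ((Scheme.Modules.pullback f).obj (O1 n k)).presheaf.germ ⊤ x trivial (psec k pX n f c) ∈
    IsLocalRing.maximalIdeal (X.presheaf.stalk x) •
      (⊤ : Submodule (X.presheaf.stalk x) (((Scheme.Modules.pullback f).obj (O1 n k)).presheaf.stalk x))

lemma toSpec_isProper : IsProper (CohB1.ProjSpace.toSpec n k) :=
  RelProjLib.isProper_polyToSpec (n + 1) k

variable {pX f} (hf : f ≫ CohB1.ProjSpace.toSpec n k = pX)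

include hf in
lemma psec_eq (c : Fin (n + 1) → k) :
    psec k pX n f c = KFlatLib.puSec f (U := ⊤) (sec n k c) := by
  have h : ∀ x : k, f.app ⊤ (ProjUP.toGlobal (CohB1.ProjSpace.toSpec n k) x) = ProjUP.toGlobal pX x := by
    intro x
    subst hf
    rfl
  rw [sec, psec, KFlatLib.puSec, map_sum]
  refine Finset.sum_congr rfl fun i _ => ?_
  rw [← h]
  exact (TwistLib.puSec_smul f _ _).symm

/-- The generator over a chart. -/
def gen (a : Fin (n + 1)) (f : X ⟶ CohB1.ProjSpace n k) :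
    Γ((Scheme.Modules.pullback f).obj (O1 n k), f ⁻¹ᵁ QCohLib.stdOpen n k a) :=
  KFlatLib.puSec f (AmpleLib.res (O1 n k) (le_top : QCohLib.stdOpen n k a ≤ ⊤) (ProjUP.coord n k a))

lemma genAt_gen {a : Fin (n + 1)} {x : X} (hx : f x ∈ QCohLib.stdOpen n k a) :
    AmpleLib.GenAt ((Scheme.Modules.pullback f).obj (O1 n k)) (gen k n a f)
      (show x ∈ f ⁻¹ᵁ QCohLib.stdOpen n k a from hx) :=
  TwistLib.GenAt.puSec f (genAt_coord n k hx)

include hf in
lemma germ_psec {a : Fin (n + 1)} {x : X} (hx : f x ∈ QCohLib.stdOpen n k a) (c : Fin (n + 1) → k) :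
    ((Scheme.Modules.pullback f).obj (O1 n k)).presheaf.germ ⊤ x trivial (psec k pX n f c) =
      f.stalkMap x ((P).presheaf.germ _ (f x) hx (L n k a c)) •
        ((Scheme.Modules.pullback f).obj (O1 n k)).presheaf.germ (f ⁻¹ᵁ QCohLib.stdOpen n k a) x hx
          (gen k n a f) := by
  have e1 : f.app _ (L n k a c) • gen k n a f =
      AmpleLib.res ((Scheme.Modules.pullback f).obj (O1 n k))
        (le_top : f ⁻¹ᵁ QCohLib.stdOpen n k a ≤ ⊤) (psec k pX n f c) := by
    refine (TwistLib.puSec_smul f _ _).symm.trans ?_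
    refine (congrArg (KFlatLib.puSec f) (res_sec n k a c).symm).trans ?_
    refine (TwistLib.puSec_res f le_top (sec n k c)).trans ?_
    exact congrArg (AmpleLib.res ((Scheme.Modules.pullback f).obj (O1 n k)) le_top) (psec_eq k n hf c).symm
  refine (AmpleLib.germ_res _ (le_top : f ⁻¹ᵁ QCohLib.stdOpen n k a ≤ ⊤) (psec k pX n f c) hx).symm.trans ?_
  refine (congrArg (((Scheme.Modules.pullback f).obj (O1 n k)).presheaf.germ _ x hx) e1.symm).trans ?_
  refine (AmpleLib.germ_smul _ _ _ (W := f ⁻¹ᵁ QCohLib.stdOpen n k a) (x := x) hx).trans ?_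
  exact congrArg₂ (· • ·) (Scheme.Hom.germ_stalkMap_apply f _ x hx _).symm rfl

include hf in
lemma xvan_iff (c : Fin (n + 1) → k) (x : X) : XVan k pX n f c x ↔ Van n k c (f x) := by
  obtain ⟨a, ha⟩ := exists_chart n k (f x)
  rw [van_iff n k ha c, XVan, germ_psec k n hf ha c]
  refine (mem_smul_top_iff (genAt_gen k n ha) _ _).trans ?_
  simp only [IsLocalRing.mem_maximalIdeal, mem_nonunits_iff]
  exact not_congr (isUnit_map_iff (f.stalkMap x).hom _)

/-- The germs of the forms vanishing at a point. -/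
def tanSet (pX : X ⟶ Spec (CommRingCat.of k)) (f : X ⟶ CohB1.ProjSpace n k) (x : X) :
    Set (((Scheme.Modules.pullback f).obj (O1 n k)).presheaf.stalk x) :=
  {v | ∃ c : Fin (n + 1) → k,
      v = ((Scheme.Modules.pullback f).obj (O1 n k)).presheaf.germ ⊤ x trivial (psec k pX n f c) ∧
      v ∈ IsLocalRing.maximalIdeal (X.presheaf.stalk x) •
        (⊤ : Submodule (X.presheaf.stalk x) (((Scheme.Modules.pullback f).obj (O1 n k)).presheaf.stalk x))}

/-- Separation of tangents at a point. -/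
def SepTan (pX : X ⟶ Spec (CommRingCat.of k)) (f : X ⟶ CohB1.ProjSpace n k) (x : X) : Prop :=
  IsLocalRing.maximalIdeal (X.presheaf.stalk x) •
      (⊤ : Submodule (X.presheaf.stalk x) (((Scheme.Modules.pullback f).obj (O1 n k)).presheaf.stalk x)) ≤
    Submodule.span (X.presheaf.stalk x) (tanSet k n pX f x) ⊔
      IsLocalRing.maximalIdeal (X.presheaf.stalk x) ^ 2 •
        (⊤ : Submodule (X.presheaf.stalk x) (((Scheme.Modules.pullback f).obj (O1 n k)).presheaf.stalk x))

include hf in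
lemma le_map_of_sepTan [IsLocallyNoetherian X] {x : X} (h : SepTan k n pX f x) :
    IsLocalRing.maximalIdeal (X.presheaf.stalk x) ≤
      (IsLocalRing.maximalIdeal ((P).presheaf.stalk (f x))).map (f.stalkMap x).hom := by
  obtain ⟨a, ha⟩ := exists_chart n k (f x)
  set J := (IsLocalRing.maximalIdeal ((P).presheaf.stalk (f x))).map (f.stalkMap x).hom
  set m := IsLocalRing.maximalIdeal (X.presheaf.stalk x)
  have hg := genAt_gen k n ha
  refine Submodule.le_of_le_smul_of_le_jacobson_bot (IsNoetherian.noetherian _)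
    (IsLocalRing.maximalIdeal_le_jacobson ⊥) fun d hd => ?_
  have hsup : Submodule.span (X.presheaf.stalk x) (tanSet k n pX f x) ⊔ m ^ 2 • ⊤ ≤ (J ⊔ m • m) • ⊤ := by
    refine sup_le (Submodule.span_le.2 ?_) (Submodule.smul_mono_left ?_)
    · rintro _ ⟨c, rfl, hc⟩
      rw [germ_psec k n hf ha c, SetLike.mem_coe, mem_smul_top_iff hg]
      refine Submodule.mem_sup_left (Ideal.mem_map_of_mem _ ?_)
      exact (van_iff n k ha c).1 ((xvan_iff k n hf c x).1 hc)
    · rw [pow_two]; exact le_sup_right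
  exact (mem_smul_top_iff hg _ d).1 (hsup (h ((mem_smul_top_iff hg _ d).2 hd)))

include hf in
lemma sepTan_of_surjective [IsAlgClosed k] {x : X} (hc : IsClosed ({f x} : Set P))
    (hs : Function.Surjective (f.stalkMap x)) : SepTan k n pX f x := by
  obtain ⟨a, ha⟩ := exists_chart n k (f x)
  obtain ⟨c, hcv, hspan, -⟩ := exists_forms n k ha hc
  refine le_sup_of_le_left (Submodule.smul_le.2 fun d hd v _ => ?_)
  obtain ⟨e, rfl⟩ := (genAt_gen k n ha).2 v
  rw [smul_smul]
  have hd' : d * e ∈ (IsLocalRing.maximalIdeal ((P).presheaf.stalk (f x))).map (f.stalkMap x).hom := by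
    rw [IsLocalRing.map_maximalIdeal_of_surjective _ hs]
    exact Ideal.mul_mem_right e _ hd
  rw [maximalIdeal_eq_map n k ha, hspan, Ideal.map_span, Ideal.map_span, ← Set.range_comp,
    ← Set.range_comp] at hd'
  refine (Ideal.span_le (I := Submodule.comap
    (LinearMap.toSpanSingleton (X.presheaf.stalk x)
      (((Scheme.Modules.pullback f).obj (O1 n k)).presheaf.stalk x)
      (((Scheme.Modules.pullback f).obj (O1 n k)).presheaf.germ (f ⁻¹ᵁ QCohLib.stdOpen n k a) x ha
        (gen k n a f))) (Submodule.span (X.presheaf.stalk x) (tanSet k n pX f x)))).2 ?_ hd'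
  rintro _ ⟨i, rfl⟩
  refine Submodule.subset_span ⟨c i, ?_, ?_⟩
  · exact (germ_psec k n hf ha (c i)).symm
  · rw [LinearMap.toSpanSingleton_apply]
    exact (congrArg (· ∈ _) (germ_psec k n hf ha (c i))).mp ((xvan_iff k n hf (c i) x).2 (hcv i))

/-- Separation of points, in the symmetric form. -/
def SepPts (pX : X ⟶ Spec (CommRingCat.of k)) (f : X ⟶ CohB1.ProjSpace n k) : Prop :=
  ∀ x y : X, IsClosed ({x} : Set X) → IsClosed ({y} : Set X) → x ≠ y →
    ∃ c : Fin (n + 1) → k, (XVan k pX n f c x ∧ ¬ XVan k pX n f c y) ∨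
      (XVan k pX n f c y ∧ ¬ XVan k pX n f c x)

include hf in
lemma injective_of_sepPts [IsProper pX] (h : SepPts k n pX f) : Function.Injective f := by
  have := toSpec_isProper k n
  have : IsProper (f ≫ CohB1.ProjSpace.toSpec n k) := hf ▸ inferInstance
  have : IsProper f := IsProper.of_comp f (CohB1.ProjSpace.toSpec n k)
  have : JacobsonSpace X := LocallyOfFiniteType.jacobsonSpace pX
  have hcl : ∀ z w : X, IsClosed ({z} : Set X) → IsClosed ({w} : Set X) → f z = f w → z = w := by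
    intro z w hz hw e
    by_contra hne
    obtain ⟨c, ⟨h1, h2⟩ | ⟨h1, h2⟩⟩ := h z w hz hw hne
    · exact h2 ((xvan_iff k n hf c w).2 (e ▸ (xvan_iff k n hf c z).1 h1))
    · exact h2 ((xvan_iff k n hf c z).2 (e.symm ▸ (xvan_iff k n hf c w).1 h1))
  suffices H : ∀ x₁ x₂ : X, f x₁ = f x₂ → x₂ ∈ closure {x₁} by
    intro x₁ x₂ e
    have h1 : x₁ ⤳ x₂ := specializes_iff_mem_closure.2 (H x₁ x₂ e)
    have h2 : x₂ ⤳ x₁ := specializes_iff_mem_closure.2 (H x₂ x₁ e.symm)
    exact (h1.antisymm h2).eq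
  intro x₁ x₂ e
  by_contra hne
  have hlc : IsLocallyClosed (closure {x₂} \ closure {x₁} : Set X) :=
    isClosed_closure.isLocallyClosed.inter isClosed_closure.isOpen_compl.isLocallyClosed
  obtain ⟨z, ⟨hz1, hz2⟩, hzc⟩ := (jacobsonSpace_iff_locallyClosed.1 ‹_›) _
    (show (closure {x₂} \ closure {x₁} : Set X).Nonempty from ⟨x₂, subset_closure rfl, hne⟩) hlc
  have hz : f z ∈ f '' closure {x₁} := by
    have h2 : f z ∈ closure (f '' {x₂}) := image_closure_subset_closure_image f.continuous ⟨z, hz1, rfl⟩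
    rw [Set.image_singleton, ← e, ← Set.image_singleton] at h2
    exact (f.isClosedMap.closure_image_subset {x₁}) h2
  obtain ⟨w₀, hw₀, hwz⟩ := hz
  have hfc : IsClosed (closure {x₁} ∩ f ⁻¹' {f z}) := isClosed_closure.inter
    (((Set.image_singleton (f := f) (a := z)) ▸ f.isClosedMap _ hzc).preimage f.continuous)
  obtain ⟨w, hw, hwc⟩ := (jacobsonSpace_iff_locallyClosed.1 ‹_›) _
    (show (closure {x₁} ∩ f ⁻¹' {f z}).Nonempty from ⟨w₀, hw₀, hwz⟩) hfc.isLocallyClosed
  exact hz2 ((hcl w z hwc hzc hw.2) ▸ hw.1)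

variable [IsAlgClosed k]

include hf in
/-- The main implication. -/
theorem isClosedImmersion_of_sep [IsProper pX] (h1 : SepPts k n pX f)
    (h2 : ∀ x : X, IsClosed ({x} : Set X) → SepTan k n pX f x) : IsClosedImmersion f := by
  have hinj := injective_of_sepPts k n hf h1
  have := toSpec_isProper k n
  have : IsProper (f ≫ CohB1.ProjSpace.toSpec n k) := hf ▸ inferInstance
  have : IsProper f := IsProper.of_comp f (CohB1.ProjSpace.toSpec n k)
  have : LocallyQuasiFinite f := LocallyQuasiFinite.of_injective hinj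
  have hfin : IsFinite f := (IsFinite.iff_isProper_and_locallyQuasiFinite f).2 ⟨inferInstance, inferInstance⟩
  have : JacobsonSpace X := LocallyOfFiniteType.jacobsonSpace pX
  have : IsLocallyNoetherian X := LocallyOfFiniteType.isLocallyNoetherian pX
  refine isClosedImmersion_iff_isAffineHom.2 ⟨inferInstance, fun U hU => ?_⟩
  have hV : IsAffineOpen (f ⁻¹ᵁ U) := hU.preimage f
  let κA : k →+* Γ(P, U) := ((CohB1.ProjSpace.toSpec n k).appLE ⊤ U le_top).hom.comp
    (Scheme.ΓSpecIso (CommRingCat.of k)).inv.hom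
  let κB : k →+* Γ(X, f ⁻¹ᵁ U) := (pX.appLE ⊤ (f ⁻¹ᵁ U) le_top).hom.comp
    (Scheme.ΓSpecIso (CommRingCat.of k)).inv.hom
  have hκ : ∀ c, f.app U (κA c) = κB c := by
    intro c
    subst hf
    simp only [κA, κB, RingHom.comp_apply, Scheme.Hom.app_eq_appLE]
    exact ConcreteCategory.congr_hom
      (Scheme.Hom.appLE_comp_appLE f (CohB1.ProjSpace.toSpec n k) ⊤ U (f ⁻¹ᵁ U) le_top le_rfl) _
  have hκft : κB.FiniteType := (pX.finiteType_appLE (isAffineOpen_top _) hV le_top).comp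
    (RingHom.FiniteType.of_surjective _
      (ConcreteCategory.bijective_of_isIso (Scheme.ΓSpecIso (CommRingCat.of k)).inv).2)
  algebraize [(f.app U).hom]
  have : Module.Finite Γ(P, U) Γ(X, f ⁻¹ᵁ U) := f.finite_app U hU
  let M' := LinearMap.range (Algebra.linearMap Γ(P, U) Γ(X, f ⁻¹ᵁ U))
  suffices H : M' = ⊤ by
    intro b
    obtain ⟨a, ha⟩ := (H ▸ Submodule.mem_top : b ∈ M')
    exact ⟨a, ha⟩
  by_contra hne
  have : Nontrivial (Γ(X, f ⁻¹ᵁ U) ⧸ M') := Submodule.Quotient.nontrivial_iff.2 hne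
  have hann : Module.annihilator Γ(P, U) (Γ(X, f ⁻¹ᵁ U) ⧸ M') ≠ ⊤ := fun h => by
    obtain ⟨v, hv⟩ := exists_ne (0 : Γ(X, f ⁻¹ᵁ U) ⧸ M')
    exact hv (by simpa using Module.mem_annihilator.1 (h ▸ Submodule.mem_top : (1 : Γ(P, U)) ∈ _) v)
  obtain ⟨q, hq, hannq⟩ := Ideal.exists_le_maximal _ hann
  -- the fibre over `q`
  have key : ∀ b : Γ(X, f ⁻¹ᵁ U), ∃ a, b - f.app U a ∈ q.map (f.app U).hom := by
    intro b
    by_cases hqB : q.map (f.app U).hom = ⊤
    · exact ⟨0, hqB ▸ Submodule.mem_top⟩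
    obtain ⟨Q, hQ, hqQ⟩ := Ideal.exists_le_maximal _ hqB
    let pt : ∀ Q' : Ideal Γ(X, f ⁻¹ᵁ U), Q'.IsPrime → X := fun Q' hp => hV.fromSpec ⟨Q', hp⟩
    have hover : ∀ (Q' : Ideal Γ(X, f ⁻¹ᵁ U)) (hp : Q'.IsPrime), q.map (f.app U).hom ≤ Q' →
        f (pt Q' hp) = hU.fromSpec ⟨q, hq.isPrime⟩ := by
      intro Q' hp hle
      have hc : (Q'.comap (f.app U).hom) = q :=
        ((hq.eq_of_le (Ideal.comap_ne_top _ hp.ne_top) (Ideal.map_le_iff_le_comap.1 hle))).symm
      have h := IsAffineOpen.SpecMap_appLE_fromSpec f hU hV le_rfl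
      have h' := congrArg (fun g => g.base ⟨Q', hp⟩) h
      simp only [← Scheme.Hom.app_eq_appLE] at h'
      refine Eq.trans h'.symm ?_
      exact congrArg hU.fromSpec (PrimeSpectrum.ext hc)
    have huniq : ∀ Q' : Ideal Γ(X, f ⁻¹ᵁ U), Q'.IsMaximal → q.map (f.app U).hom ≤ Q' → Q' = Q := by
      intro Q' hQ' hle
      have e := hinj ((hover Q' hQ'.isPrime hle).trans (hover Q hQ.isPrime hqQ).symm)
      exact congrArg PrimeSpectrum.asIdeal (hV.fromSpec.isOpenEmbedding.injective e)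
    let x := pt Q hQ.isPrime
    have hxV : x ∈ f ⁻¹ᵁ U := hV.range_fromSpec.subset ⟨_, rfl⟩
    have hxc : IsClosed ({x} : Set X) := by
      have h' : (⟨Q, hQ.isPrime⟩ : Spec Γ(X, f ⁻¹ᵁ U)) ∈ closedPoints (Spec Γ(X, f ⁻¹ᵁ U)) :=
        (PrimeSpectrum.isClosed_singleton_iff_isMaximal _).2 hQ
      rw [← hV.fromSpec.isOpenEmbedding.preimage_closedPoints] at h'
      exact h'
    let _ : Algebra Γ(X, f ⁻¹ᵁ U) (X.presheaf.stalk x) :=
      TopCat.Presheaf.algebra_section_stalk X.presheaf ⟨x, hxV⟩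
    have hprim : hV.primeIdealOf ⟨x, hxV⟩ = ⟨Q, hQ.isPrime⟩ :=
      hV.fromSpec.isOpenEmbedding.injective (hV.fromSpec_primeIdealOf _)
    have : IsLocalization.AtPrime (X.presheaf.stalk x) Q := by
      have := hV.isLocalization_stalk ⟨x, hxV⟩
      simpa only [hprim] using this
    let _ : Algebra Γ(P, U) ((P).presheaf.stalk (f x)) :=
      TopCat.Presheaf.algebra_section_stalk (P).presheaf ⟨f x, hxV⟩
    have hprimU : hU.primeIdealOf ⟨f x, hxV⟩ = ⟨q, hq.isPrime⟩ :=
      hU.fromSpec.isOpenEmbedding.injective ((hU.fromSpec_primeIdealOf _).trans (hover Q hQ.isPrime hqQ))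
    have : IsLocalization.AtPrime ((P).presheaf.stalk (f x)) q := by
      have := hU.isLocalization_stalk ⟨f x, hxV⟩
      simpa only [hprimU] using this
    -- the residue field is `k`
    have hres : ∃ c : k, b - κB c ∈ Q := by
      let _ : Field (Γ(X, f ⁻¹ᵁ U) ⧸ Q) := Ideal.Quotient.field Q
      let _ : Algebra k (Γ(X, f ⁻¹ᵁ U) ⧸ Q) := ((Ideal.Quotient.mk Q).comp κB).toAlgebra
      have : Algebra.FiniteType k (Γ(X, f ⁻¹ᵁ U) ⧸ Q) :=
        RingHom.finiteType_algebraMap.1 ((RingHom.FiniteType.of_surjective _ Ideal.Quotient.mk_surjective).comp hκft)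
      have : Module.Finite k (Γ(X, f ⁻¹ᵁ U) ⧸ Q) := finite_of_finite_type_of_isJacobsonRing _ _
      obtain ⟨c, hc⟩ := (IsAlgClosed.algebraMap_bijective_of_isIntegral
        (k := k) (K := Γ(X, f ⁻¹ᵁ U) ⧸ Q)).2 (Ideal.Quotient.mk Q b)
      exact ⟨c, Ideal.Quotient.eq.1 hc.symm⟩
    obtain ⟨c, hc⟩ := hres
    refine ⟨κA c, ?_⟩
    rw [hκ]
    set b' := b - κB c
    -- tangents
    have hm : algebraMap Γ(X, f ⁻¹ᵁ U) (X.presheaf.stalk x) b' ∈
        (q.map (f.app U).hom).map (algebraMap Γ(X, f ⁻¹ᵁ U) (X.presheaf.stalk x)) := by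
      have h3 := le_map_of_sepTan k n hf (h2 x hxc)
        ((IsLocalization.AtPrime.to_map_mem_maximal_iff (X.presheaf.stalk x) Q b').2 hc)
      rw [← IsLocalization.AtPrime.map_eq_maximalIdeal q ((P).presheaf.stalk (f x)), Ideal.map_map] at h3
      rw [Ideal.map_map]
      have ecomp : (f.stalkMap x).hom.comp (algebraMap Γ(P, U) ((P).presheaf.stalk (f x))) =
          (algebraMap Γ(X, f ⁻¹ᵁ U) (X.presheaf.stalk x)).comp (f.app U).hom :=
        RingHom.ext fun r => Scheme.Hom.germ_stalkMap_apply f U x hxV r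
      rwa [ecomp] at h3
    obtain ⟨s, hs, hsb⟩ := (IsLocalization.algebraMap_mem_map_algebraMap_iff Q.primeCompl _ _ _).1 hm
    by_contra hb
    let I : Ideal Γ(X, f ⁻¹ᵁ U) := (q.map (f.app U).hom).colon (Ideal.span {b'})
    have hmemI : ∀ t, t ∈ I ↔ t * b' ∈ q.map (f.app U).hom := fun t => by
      simp [I]
    have hI : I ≠ ⊤ := fun h => hb (by simpa using (hmemI 1).1 (h ▸ Submodule.mem_top))
    obtain ⟨Q', hQ', hIQ'⟩ := Ideal.exists_le_maximal _ hI
    have hqI : q.map (f.app U).hom ≤ I := fun t ht => (hmemI t).2 (Ideal.mul_mem_right _ _ ht)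
    exact hs (huniq Q' hQ' (hqI.trans hIQ') ▸ hIQ' ((hmemI s).2 hsb))
  -- Nakayama
  have hle : (⊤ : Submodule Γ(P, U) (Γ(X, f ⁻¹ᵁ U) ⧸ M')) ≤ q • ⊤ := by
    rintro v -
    obtain ⟨b, rfl⟩ := Submodule.Quotient.mk_surjective M' v
    obtain ⟨a, ha⟩ := key b
    have h1 : (Submodule.Quotient.mk (p := M') b) = Submodule.Quotient.mk (b - f.app U a) :=
      (Submodule.Quotient.eq M').2 (by rw [sub_sub_cancel]; exact ⟨a, rfl⟩)
    have h2 : b - f.app U a ∈ q • (⊤ : Submodule Γ(P, U) Γ(X, f ⁻¹ᵁ U)) := by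
      rw [Ideal.smul_top_eq_map]; exact ha
    rw [h1]
    have := Submodule.mem_map_of_mem (f := M'.mkQ) h2
    rw [Submodule.map_smul''] at this
    exact Submodule.smul_le.2 (fun r hr v _ => Submodule.smul_mem_smul hr Submodule.mem_top) this
  obtain ⟨r, hr, hr0⟩ := Submodule.exists_sub_one_mem_and_smul_eq_zero_of_fg_of_le_smul q ⊤
    Module.Finite.fg_top hle
  refine hq.ne_top ((Ideal.eq_top_iff_one _).2 ?_)
  have := q.sub_mem (hannq (Module.mem_annihilator.2 fun v => hr0 v trivial)) hr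
  rwa [sub_sub_cancel] at this

include hf in
/-- A closed immersion separates points and tangents. -/
theorem sep_of_isClosedImmersion [IsClosedImmersion f] :
    (∀ x y : X, IsClosed ({x} : Set X) → IsClosed ({y} : Set X) → x ≠ y →
      ∃ c : Fin (n + 1) → k, XVan k pX n f c x ∧ ¬ XVan k pX n f c y) ∧
    ∀ x : X, IsClosed ({x} : Set X) → SepTan k n pX f x := by
  have hcl : ∀ x : X, IsClosed ({x} : Set X) → IsClosed ({f x} : Set P) := fun x hx =>
    Set.image_singleton (f := f) (a := x) ▸ f.isClosedEmbedding.isClosedMap _ hx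
  refine ⟨fun x y hx hy hne => ?_, fun x hx => sepTan_of_surjective k n hf (hcl x hx) (f.stalkMap_surjective x)⟩
  obtain ⟨c, h1, h2⟩ := exists_separating n k (hcl x hx) (hcl y hy)
    fun e => hne (f.isClosedEmbedding.injective e)
  exact ⟨c, (xvan_iff k n hf c x).2 h1, fun h => h2 ((xvan_iff k n hf c y).1 h)⟩

end ProjDegLib

end
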