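import Groth.Agent.GradedCechLib.Chart
import Groth.Agent.TwistLib.PtApp
import Groth.Agent.TwistLib.PullGen
import Groth.Prelude.Def_ProjUP
import Mathlib.RingTheory.Nullstellensatz
import Mathlib.AlgebraicGeometry.Stalk

/-!
# Linear forms at closed points of projective space
-/

set_option autoImplicit false
universe u

open CategoryTheory AlgebraicGeometry TopologicalSpace Opposite
open GradedCechLib

noncomputable section

namespace ProjDegLib

/-- The multiples of a generator lying in `I • ⊤` are those with coefficient in `I`. -/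
theorem mem_smul_top_iff {R M : Type u} [CommRing R] [AddCommGroup M] [Module R M] {g : M}
    (hg : Function.Bijective fun c : R => c • g) (I : Ideal R) (c : R) :
    c • g ∈ I • (⊤ : Submodule R M) ↔ c ∈ I := by
  refine ⟨fun h => ?_, fun h => Submodule.smul_mem_smul h Submodule.mem_top⟩
  have hle : I • (⊤ : Submodule R M) ≤ Submodule.map (LinearMap.toSpanSingleton R M g) I :=
    Submodule.smul_le.2 fun r hr m _ => by
      obtain ⟨d, rfl⟩ := hg.2 m
      exact ⟨r * d, I.mul_mem_right d hr, mul_smul r d g⟩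
  obtain ⟨d, hd, e⟩ := hle h
  rw [← hg.1 e]
  exact hd

variable (n : ℕ) (k : Type u) [Field k]

local notation "P" => CohB1.ProjSpace n k

/-- `O(1)` -/
abbrev O1 : (CohB1.ProjSpace n k).Modules := Twist.twistProjSpace n k 1

/-- The linear form with coefficients `c`, as a section of `O(1)`. -/
def sec (c : Fin (n + 1) → k) : ProjUP.Γm (O1 n k) :=
  ∑ i, ProjUP.toGlobal (CohB1.ProjSpace.toSpec n k) (c i) • ProjUP.coord n k i

/-- The linear form as a polynomial. -/
def form (c : Fin (n + 1) → k) : MvPolynomial (Fin (n + 1)) k := ∑ i, MvPolynomial.C (c i) * MvPolynomial.X i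

/-- The linear form on the chart `a`. -/
def L (a : Fin (n + 1)) (c : Fin (n + 1) → k) : Γ(P, QCohLib.stdOpen n k a) :=
  deh n k a (form n k c)

lemma res_sec (a : Fin (n + 1)) (c : Fin (n + 1) → k) :
    AmpleLib.res (O1 n k) (le_top : QCohLib.stdOpen n k a ≤ ⊤) (sec n k c) =
      L n k a c • AmpleLib.res (O1 n k) (le_top : QCohLib.stdOpen n k a ≤ ⊤) (ProjUP.coord n k a) := by
  have hcoord : ∀ i, deh n k a (MvPolynomial.X i) •
      AmpleLib.res (O1 n k) (le_top : QCohLib.stdOpen n k a ≤ ⊤) (ProjUP.coord n k a) =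
        AmpleLib.res (O1 n k) (le_top : QCohLib.stdOpen n k a ≤ ⊤) (ProjUP.coord n k i) := by
    intro i
    refine Eq.trans ?_ (TwistLib.frac_smul_globalOf (CohB1.polyGrading n k) (X_mem n k a) (X_mem n k i))
    refine congrArg₂ (· • ·) ?_ rfl
    show toSec n k a (deh₀ n k a _) = _
    rw [deh₀_X]
    rfl
  simp only [L, sec, form, map_sum, Finset.sum_smul, map_mul, mul_smul]
  refine Finset.sum_congr rfl fun i _ => ?_
  rw [hcoord i, deh_C]
  exact AmpleLib.res_smul _ _ _ _

lemma genAt_coord {a : Fin (n + 1)} {y : P} (hy : y ∈ QCohLib.stdOpen n k a) :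
    AmpleLib.GenAt (O1 n k) (AmpleLib.res (O1 n k) (le_top : QCohLib.stdOpen n k a ≤ ⊤) (ProjUP.coord n k a)) hy :=
  (TwistLib.globalOf_genOn (CohB1.polyGrading n k) (X_mem n k a)).genAt hy

lemma exists_chart (y : P) : ∃ a, y ∈ QCohLib.stdOpen n k a :=
  Opens.mem_iSup.mp (show y ∈ ⨆ a, QCohLib.stdOpen n k a by rw [QCohLib.iSup_stdOpen]; trivial)

lemma stdOpen_affine (a : Fin (n + 1)) : IsAffineOpen (QCohLib.stdOpen n k a) :=
  Proj.isAffineOpen_basicOpen (CohB1.polyGrading n k) (MvPolynomial.X a) (X_mem n k a) one_pos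

/-- A linear form vanishes at a point. -/
def Van (c : Fin (n + 1) → k) (y : P) : Prop :=
  (O1 n k).presheaf.germ ⊤ y trivial (sec n k c) ∈
    IsLocalRing.maximalIdeal ((P).presheaf.stalk y) •
      (⊤ : Submodule ((P).presheaf.stalk y) ((O1 n k).presheaf.stalk y))

lemma germ_sec {a : Fin (n + 1)} {y : P} (hy : y ∈ QCohLib.stdOpen n k a) (c : Fin (n + 1) → k) :
    (O1 n k).presheaf.germ ⊤ y trivial (sec n k c) =
      (P).presheaf.germ _ y hy (L n k a c) •
        (O1 n k).presheaf.germ _ y hy
          (AmpleLib.res (O1 n k) (le_top : QCohLib.stdOpen n k a ≤ ⊤) (ProjUP.coord n k a)) := by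
  rw [← AmpleLib.germ_smul, ← res_sec, AmpleLib.germ_res]

lemma van_iff {a : Fin (n + 1)} {y : P} (hy : y ∈ QCohLib.stdOpen n k a) (c : Fin (n + 1) → k) :
    Van n k c y ↔ (P).presheaf.germ _ y hy (L n k a c) ∈
      IsLocalRing.maximalIdeal ((P).presheaf.stalk y) := by
  rw [Van, germ_sec n k hy c]
  exact mem_smul_top_iff (genAt_coord n k hy) _ _

/-- The prime of a point in the chart. -/
def pr {a : Fin (n + 1)} {y : P} (hy : y ∈ QCohLib.stdOpen n k a) : Ideal Γ(P, QCohLib.stdOpen n k a) :=
  ((stdOpen_affine n k a).primeIdealOf ⟨y, hy⟩).asIdeal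

instance pr_isPrime {a : Fin (n + 1)} {y : P} (hy : y ∈ QCohLib.stdOpen n k a) : (pr n k hy).IsPrime :=
  ((stdOpen_affine n k a).primeIdealOf ⟨y, hy⟩).2

lemma germ_mem_maximalIdeal_iff {a : Fin (n + 1)} {y : P} (hy : y ∈ QCohLib.stdOpen n k a)
    (r : Γ(P, QCohLib.stdOpen n k a)) :
    (P).presheaf.germ _ y hy r ∈ IsLocalRing.maximalIdeal ((P).presheaf.stalk y) ↔ r ∈ pr n k hy := by
  let _ : Algebra Γ(P, QCohLib.stdOpen n k a) ((P).presheaf.stalk y) :=
    TopCat.Presheaf.algebra_section_stalk (P).presheaf ⟨y, hy⟩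
  have : IsLocalization.AtPrime ((P).presheaf.stalk y) (pr n k hy) :=
    (stdOpen_affine n k a).isLocalization_stalk ⟨y, hy⟩
  exact IsLocalization.AtPrime.to_map_mem_maximal_iff ((P).presheaf.stalk y) (pr n k hy) r

lemma maximalIdeal_eq_map {a : Fin (n + 1)} {y : P} (hy : y ∈ QCohLib.stdOpen n k a) :
    IsLocalRing.maximalIdeal ((P).presheaf.stalk y) =
      (pr n k hy).map ((P).presheaf.germ _ y hy).hom := by
  let _ : Algebra Γ(P, QCohLib.stdOpen n k a) ((P).presheaf.stalk y) :=
    TopCat.Presheaf.algebra_section_stalk (P).presheaf ⟨y, hy⟩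
  have : IsLocalization.AtPrime ((P).presheaf.stalk y) (pr n k hy) :=
    (stdOpen_affine n k a).isLocalization_stalk ⟨y, hy⟩
  exact (IsLocalization.AtPrime.map_eq_maximalIdeal (pr n k hy) ((P).presheaf.stalk y)).symm

lemma van_iff_pr {a : Fin (n + 1)} {y : P} (hy : y ∈ QCohLib.stdOpen n k a) (c : Fin (n + 1) → k) :
    Van n k c y ↔ L n k a c ∈ pr n k hy :=
  (van_iff n k hy c).trans (germ_mem_maximalIdeal_iff n k hy _)

lemma form_single (i : Fin (n + 1)) : form n k (Pi.single i 1) = MvPolynomial.X i := by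
  rw [form, Finset.sum_eq_single i]
  · simp
  · intro j _ hj; simp [hj]
  · simp

lemma form_sub_smul (i a : Fin (n + 1)) (x : k) :
    form n k (Pi.single i 1 - x • Pi.single a 1) =
      MvPolynomial.X i - MvPolynomial.C x * MvPolynomial.X a := by
  rw [← form_single n k i, ← form_single n k a]
  simp [form, sub_mul, Finset.sum_sub_distrib, Finset.mul_sum, mul_assoc]

lemma sub_eval_mem (x : Fin (n + 1) → k) (q : MvPolynomial (Fin (n + 1)) k) :
    q - MvPolynomial.C (MvPolynomial.eval x q) ∈
      Ideal.span (Set.range fun i => MvPolynomial.X i - MvPolynomial.C (x i)) := by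
  induction q using MvPolynomial.induction_on with
  | C c => simp
  | add p q hp hq =>
    rw [map_add, map_add]
    convert add_mem hp hq using 1
    ring
  | mul_X p i hp =>
    have h := add_mem (Ideal.mul_mem_right (MvPolynomial.X i) _ hp)
      (Ideal.mul_mem_left _ (MvPolynomial.C (MvPolynomial.eval x p))
        (Ideal.subset_span ⟨i, rfl⟩ : MvPolynomial.X i - MvPolynomial.C (x i) ∈
          Ideal.span (Set.range fun i => MvPolynomial.X i - MvPolynomial.C (x i))))
    convert h using 1
    rw [map_mul, MvPolynomial.eval_X, map_mul]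
    ring

/-- The prime of a closed point in a chart is maximal. -/
lemma pr_isMaximal {a : Fin (n + 1)} {y : P} (hy : y ∈ QCohLib.stdOpen n k a)
    (hc : IsClosed ({y} : Set P)) : (pr n k hy).IsMaximal := by
  refine (PrimeSpectrum.isClosed_singleton_iff_isMaximal _).1 ?_
  have h : ((stdOpen_affine n k a).fromSpec.base ⁻¹' {y}) =
      ({(stdOpen_affine n k a).primeIdealOf ⟨y, hy⟩} : Set (Spec Γ(P, QCohLib.stdOpen n k a))) := by
    ext z
    have e := (stdOpen_affine n k a).fromSpec_primeIdealOf ⟨y, hy⟩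
    constructor
    · intro hz
      exact (stdOpen_affine n k a).fromSpec.isOpenEmbedding.injective (hz.trans e.symm)
    · rintro rfl
      exact e
  exact h ▸ hc.preimage (stdOpen_affine n k a).fromSpec.continuous

variable [IsAlgClosed k]

/-- At a closed point the linear forms vanishing there generate its prime in each chart. -/
lemma exists_forms {a : Fin (n + 1)} {y : P} (hy : y ∈ QCohLib.stdOpen n k a)
    (hc : IsClosed ({y} : Set P)) :
    ∃ c : Fin (n + 1) → Fin (n + 1) → k, (∀ i, Van n k (c i) y) ∧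
      pr n k hy = Ideal.span (Set.range fun i => L n k a (c i)) ∧
      ∀ i, ∃ x : k, c i = Pi.single i 1 - x • Pi.single a 1 := by
  have := pr_isMaximal n k hy hc
  have hmax : ((pr n k hy).comap (deh n k a)).IsMaximal :=
    Ideal.comap_isMaximal_of_surjective _ (deh_surjective n k a)
  obtain ⟨x, hx⟩ := MvPolynomial.isMaximal_iff_eq_vanishingIdeal_singleton.1 hmax
  have hmem : ∀ q, deh n k a q ∈ pr n k hy ↔ MvPolynomial.eval x q = 0 := fun q => by
    rw [← Ideal.mem_comap, hx, MvPolynomial.mem_vanishingIdeal_singleton_iff]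
    rfl
  have hxa : x a = 1 := by
    have := (hmem (MvPolynomial.X a - 1)).1 (by rw [map_sub, map_one, deh_X_self, sub_self]; exact zero_mem _)
    simpa [sub_eq_zero] using this
  have hL : ∀ i, L n k a (Pi.single i 1 - x i • Pi.single a 1) =
      deh n k a (MvPolynomial.X i - MvPolynomial.C (x i)) := fun i => by
    rw [L, form_sub_smul, map_sub, map_sub, map_mul, deh_X_self, mul_one]
  refine ⟨fun i => Pi.single i 1 - x i • Pi.single a 1, fun i => ?_, ?_, fun i => ⟨_, rfl⟩⟩
  · rw [van_iff_pr n k hy, hL, hmem]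
    simp
  · rw [← Ideal.map_comap_of_surjective _ (deh_surjective n k a) (pr n k hy)]
    simp only [hL]
    have : (pr n k hy).comap (deh n k a) =
        Ideal.span (Set.range fun i => MvPolynomial.X i - MvPolynomial.C (x i)) := by
      refine le_antisymm (fun q hq => ?_) (Ideal.span_le.2 ?_)
      · have h0 := sub_eval_mem n k x q
        rwa [(hmem q).1 hq, map_zero, sub_zero] at h0
      · rintro _ ⟨i, rfl⟩
        exact (hmem _).2 (by simp)
    rw [this, Ideal.map_span, ← Set.range_comp]
    rfl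

omit [IsAlgClosed k] in
lemma van_add {c c' : Fin (n + 1) → k} {y : P} (h : Van n k c y) (h' : Van n k c' y) :
    Van n k (c + c') y := by
  have e : sec n k (c + c') = sec n k c + sec n k c' := by
    simp [sec, add_smul, Finset.sum_add_distrib]
  rw [Van, e, map_add]
  exact add_mem h h'

/-- Two closed points are separated by a linear form. -/
theorem exists_separating {y y' : P} (hy : IsClosed ({y} : Set P)) (hy' : IsClosed ({y'} : Set P))
    (hne : y ≠ y') : ∃ c, Van n k c y ∧ ¬ Van n k c y' := by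
  obtain ⟨a, ha⟩ := exists_chart n k y
  obtain ⟨c, hc, hspan, hform⟩ := exists_forms n k ha hy
  by_contra! hne'
  have hall : ∀ i, Van n k (c i) y' := fun i => hne' _ (hc i)
  by_cases ha' : y' ∈ QCohLib.stdOpen n k a
  · refine hne ?_
    have hle : pr n k ha ≤ pr n k ha' := by
      rw [hspan, Ideal.span_le]
      rintro _ ⟨i, rfl⟩
      exact (van_iff_pr n k ha' _).1 (hall i)
    have e : pr n k ha = pr n k ha' :=
      (pr_isMaximal n k ha hy).eq_of_le (pr_isMaximal n k ha' hy').ne_top hle
    have := congrArg (stdOpen_affine n k a).fromSpec (PrimeSpectrum.ext e)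
    rwa [IsAffineOpen.fromSpec_primeIdealOf, IsAffineOpen.fromSpec_primeIdealOf] at this
  · obtain ⟨b, hb⟩ := exists_chart n k y'
    have hXa : deh n k b (MvPolynomial.X a) ∈ pr n k hb := by
      rw [← germ_mem_maximalIdeal_iff n k hb, IsLocalRing.mem_maximalIdeal, mem_nonunits_iff,
        ← Scheme.mem_basicOpen _ _ _ hb, basicOpen_deh_X]
      exact fun h => ha' h.2
    obtain ⟨x, hx⟩ := hform b
    have h1 := (van_iff_pr n k hb _).1 (hall b)
    rw [hx, L, form_sub_smul, map_sub, map_mul, deh_X_self] at h1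
    have h2 := add_mem h1 (Ideal.mul_mem_left _ (deh n k b (MvPolynomial.C x)) hXa)
    rw [sub_add_cancel] at h2
    exact ((stdOpen_affine n k b).primeIdealOf ⟨y', hb⟩).2.ne_top ((Ideal.eq_top_iff_one _).2 h2)

end ProjDegLib

end
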